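import Cfsg.Agent.P4Q.Nu

/-! The corner algebra of the symmetric part acting on a weight space of dimension two. -/

set_option autoImplicit false
set_option linter.unusedSectionVars false

namespace Cfsg.Agent.P4Q

open MulAction Matrix Module Cfsg.Agent.Perm1 Cfsg.Agent.PrimeDeg

section Two

variable {S V : Type*} [Field S] [CharZero S] [AddCommGroup V] [Module S V] {a b m : End S V}

local notation "tr" => LinearMap.trace S V

theorem sq2 (hd : finrank S V = 2) (ha : tr a = 0) : a * a = (tr (a * a) / 2) • 1 := by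
  have := ch2 hd a a
  rw [ha] at this
  linear_combination (norm := module) (2 : S)⁻¹ • this

theorem anti2 (hd : finrank S V = 2) (ha : tr a = 0) (hb : tr b = 0) (hab : tr (a * b) = 0) :
    a * b + b * a = 0 := by
  simpa [ha, hb, hab] using ch2 hd a b

theorem s2 (hd : finrank S V = 2) (ha : tr a = 0) (m : End S V) :
    a * a * m + a * m * a = (tr (a * a) / 2 * tr m) • 1 + tr (a * m) • a := by
  have := congrArg (a * ·) (ch2 hd a m)
  simp only [ha, mul_add, mul_smul_comm, ← mul_assoc, zero_smul, zero_mul, sub_zero, mul_one, zero_add] at this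
  rw [this, sq2 hd ha, smul_smul, mul_comm (tr m), ← sq2 hd ha]

theorem ss2 (hd : finrank S V = 2) (ha : tr a = 0) (hb : tr b = 0) (hab : tr (b * a) = 0) (m : End S V) :
    b * b * (a * a * m + a * m * a) + b * (a * a * m + a * m * a) * b =
      (tr (a * a) / 2 * (tr (b * b) / 2) * 2 * tr m) • 1 := by
  have : FiniteDimensional S V := Module.finite_of_finrank_eq_succ hd
  rw [s2 hd hb, s2 hd ha]
  simp only [map_add, map_smul, mul_add, mul_smul_comm, mul_one, ha, hb, hab, LinearMap.trace_one, hd, smul_eq_mul,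
    mul_zero, add_zero, zero_smul]
  congr 1
  push_cast
  ring

theorem det2 (hd : finrank S V = 2) (m : End S V) :
    m * (tr m • 1 - m) = ((tr m ^ 2 - tr (m * m)) / 2) • 1 ∧
      (tr m • 1 - m) * m = ((tr m ^ 2 - tr (m * m)) / 2) • 1 := by
  have := ch2 hd m m
  simp only [mul_sub, sub_mul, mul_smul_comm, smul_mul_assoc, mul_one, one_mul, and_self]
  linear_combination (norm := module) (-2 : S)⁻¹ • this

theorem det2_ne (hd : finrank S V = 2) (hm : ∀ v, m v = 0 → v = 0) : (tr m ^ 2 - tr (m * m)) / 2 ≠ 0 := by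
  have : FiniteDimensional S V := Module.finite_of_finrank_eq_succ hd
  intro h0
  have h1 := (det2 hd m).1
  rw [h0, zero_smul] at h1
  have h2 : tr m • 1 = m := sub_eq_zero.1 (LinearMap.ext fun v => hm _ (DFunLike.congr_fun h1 v))
  have h3 := congrArg tr h2
  rw [map_smul, LinearMap.trace_one, hd, smul_eq_mul, Nat.cast_ofNat] at h3
  rw [show tr m = 0 by linear_combination h3, zero_smul] at h2
  have : Subsingleton V := ⟨fun u v => by rw [hm u (by rw [← h2]; rfl), hm v (by rw [← h2]; rfl)]⟩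
  rw [finrank_zero_of_subsingleton] at hd
  omega

theorem inj2 (hd : finrank S V = 2) (ha : tr a = 0) (h : tr (a * a) ≠ 0) (v : V) (hv : a v = 0) : v = 0 := by
  have := DFunLike.congr_fun (sq2 hd ha) v
  rw [End.mul_apply, hv, map_zero] at this
  exact (smul_eq_zero.1 this.symm).resolve_left (div_ne_zero h two_ne_zero)

end Two

variable {G : Type*} [Group G] [Finite G] {p q : ℕ} [hp : Fact p.Prime] [hq : Fact q.Prime]
  [MulAction G (ZMod p)] [FaithfulSMul G (ZMod p)] {y x : G} {k : ZMod p}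

local notation "𝔽" => ZMod p
local notation "𝕏" => ZMod p × ZMod p

variable (G p) in
/-- The corner algebra. -/
def ApN : NonUnitalSubalgebra ℚ (Matrix 𝕏 𝕏 ℚ) where
  carrier := {m | Ap G m}
  add_mem' := fun ha hb => ⟨ha.1.add hb.1, by rw [mul_add, ha.2.1, hb.2.1], by rw [add_mul, ha.2.2, hb.2.2]⟩
  zero_mem' := ⟨fun _ _ _ => rfl, mul_zero _, zero_mul _⟩
  mul_mem' := fun ha hb => ⟨ha.1.mul hb.1, by rw [← mul_assoc, ha.2.1], by rw [mul_assoc, hb.2.2]⟩
  smul_mem' := fun c a ha => ⟨ha.1.smul c, by rw [mul_smul_comm, ha.2.1], by rw [smul_mul_assoc, ha.2.2]⟩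

section R

variable {S : Type*} [Field S] [CharZero S] {η : S}

theorem cq_mul {X : Type*} [Fintype X] (a b : Matrix X X ℚ) : cq S (a * b) = cq S a * cq S b := Matrix.map_mul

theorem cq_smul {X : Type*} (c : ℚ) (a : Matrix X X ℚ) : cq S (c • a) = (c : S) • cq S a := by
  ext; simp

theorem cq_add {X : Type*} (a b : Matrix X X ℚ) : cq S (a + b) = cq S a + cq S b := by
  ext; simp

variable (y x) in
/-- The action on a weight space. -/
def RV (η : S) : ApN G p →ₙ+* End S (WX y x η (cq S (unitK 𝔽 1))) where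
  toFun m := resX η (m.2.1.map _) (by rw [← cq_mul, m.2.2.1])
  map_mul' a b := LinearMap.ext fun v => Subtype.ext (by
    change cq S (a.1 * b.1) *ᵥ v.1 = cq S a.1 *ᵥ (cq S b.1 *ᵥ v.1)
    rw [cq_mul, mulVec_mulVec])
  map_zero' := LinearMap.ext fun v => Subtype.ext (by
    change cq S 0 *ᵥ v.1 = 0
    simp)
  map_add' a b := LinearMap.ext fun v => Subtype.ext (by
    change cq S (a.1 + b.1) *ᵥ v.1 = cq S a.1 *ᵥ v.1 + cq S b.1 *ᵥ v.1
    rw [cq_add, add_mulVec])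

theorem RV_apply (m : ApN G p) (v : WX y x η (cq S (unitK 𝔽 1))) :
    (RV y x η m v : 𝕏 → S) = cq S m.1 *ᵥ v.1 := rfl

theorem RV_smul (c : ℚ) (m : ApN G p) : RV y x η (c • m) = (c : S) • RV y x η m :=
  LinearMap.ext fun v => Subtype.ext (by
    change cq S (c • m.1) *ᵥ v.1 = (c : S) • (cq S m.1 *ᵥ v.1)
    rw [cq_smul, smul_mulVec])

theorem RV_unit {e : ApN G p} (he : e.1 = unitK 𝔽 1) : RV y x η e = 1 :=
  LinearMap.ext fun v => Subtype.ext (by rw [RV_apply, he]; exact v.2.2.2)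

theorem trace_RV (h : PQ G 𝔽 p q y x k) (hη : η ^ q = 1) (he : Inv G (unitK 𝔽 1)) (m : ApN G p) :
    LinearMap.trace S _ (RV y x η m) = tv q k η (cq S m.1) :=
  trace_resX h hη (Nat.cast_ne_zero.2 hq.out.ne_zero) (he.map _) (m.2.1.map _) (by rw [← cq_mul, m.2.2.1])

theorem tv_rat (hη : IsPrimitiveRoot η q) {m : Matrix 𝕏 𝕏 ℚ} (hm : NI k (⊤ : Subgroup (ZMod q)ˣ) m) :
    tv q k η (cq S m) = ((nj k (nuM m) (0 : ZMod q) - nj k (nuM m) (1 : ZMod q)) / q : ℚ) := by
  classical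
  set c := nj (q := q) k (nuM m)
  have h1 := (cyMap_eq_zero_iff hη (c - Pi.single 0 (c 0 - c 1))).2 (by
    have : ∀ i, (c - Pi.single 0 (c 0 - c 1) : ZMod q → ℚ) i = c 1 := fun i => by
      by_cases e : i = 0
      · simp [e]
      · simpa [e] using hm (Units.mk0 i e) trivial 1
    exact fun i j => by rw [this, this])
  rw [map_sub, sub_eq_zero] at h1
  rw [tv_cy, h1, cyMap_apply, Finset.sum_eq_single 0 (fun j _ hj => by simp [hj]) (by simp)]
  simp [Algebra.smul_def, div_eq_inv_mul]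

end R

section K

variable {L : Type*} [Field L] [CharZero L] [IsCyclotomicExtension {q} ℚ L]

variable (y x) in
/-- The elements acting as scalars. -/
def ScA (ζ : ℂ) : Submodule ℚ (Matrix 𝕏 𝕏 ℚ) where
  carrier := {a | ∃ ha : a ∈ ApN G p, ∃ c : ℂ, RV y x ζ ⟨a, ha⟩ = c • 1}
  add_mem' := by
    rintro a b ⟨ha, c, e⟩ ⟨hb, d, e'⟩
    exact ⟨add_mem ha hb, c + d, by rw [add_smul, ← e, ← e', ← map_add]; rfl⟩
  zero_mem' := ⟨zero_mem _, 0, by rw [zero_smul]; exact map_zero _⟩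
  smul_mem' := by
    rintro r a ⟨ha, c, e⟩
    exact ⟨SMulMemClass.smul_mem r ha, r * c, by rw [mul_smul, ← e, ← RV_smul]; rfl⟩

variable (q k) in
/-- The scalar as an element of the cyclotomic field. -/
noncomputable def PhiA (L : Type*) [Field L] [CharZero L] [IsCyclotomicExtension {q} ℚ L]
    (A : Submodule ℚ (Matrix 𝕏 𝕏 ℚ)) : A →ₗ[ℚ] L where
  toFun a := tv q k (IsCyclotomicExtension.zeta q ℚ L) (cq L a.1) / 2
  map_add' a b := by rw [Submodule.coe_add, cq_add, tv_add, add_div]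
  map_smul' c a := by rw [Submodule.coe_smul, cq_smul, tv_smul, RingHom.id_apply, Rat.smul_def, mul_div_assoc]

theorem tv_iota (ι : L →+* ℂ) (η : L) (m : Matrix 𝕏 𝕏 ℚ) :
    tv q k (ι η) (cq ℂ m) = ι (tv q k η (cq L m)) := by
  rw [← tv_map]
  congr 1
  ext; simp

variable {ι : L →+* ℂ}

local notation "ζ" => ι (IsCyclotomicExtension.zeta q ℚ L)

theorem prim_iota : IsPrimitiveRoot ζ q := (IsCyclotomicExtension.zeta_spec q ℚ L).map_of_injective ι.injective

theorem RV_scA (h : PQ G 𝔽 p q y x k) (he : Inv G (unitK 𝔽 1))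
    (hd : finrank ℂ (WX y x ζ (cq ℂ (unitK 𝔽 1))) = 2) (a : ScA y x ζ) :
    RV y x ζ ⟨a.1, a.2.1⟩ = ι (PhiA q k L _ a) • 1 := by
  have : FiniteDimensional ℂ _ := Module.finite_of_finrank_eq_succ hd
  obtain ⟨a, ha, c, e⟩ := a
  have h1 := congrArg (LinearMap.trace ℂ _) e
  rw [trace_RV h prim_iota.pow_eq_one he, map_smul, LinearMap.trace_one, hd, tv_iota] at h1
  refine e.trans (congrArg (· • 1) ?_)
  change c = ι (_ / 2)
  rw [map_div₀, h1, map_ofNat]
  simp

theorem mem_K (h : PQ G 𝔽 p q y x k) (he : Inv G (unitK 𝔽 1))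
    (hd : finrank ℂ (WX y x ζ (cq ℂ (unitK 𝔽 1))) = 2) {l : L} :
    l ∈ LinearMap.range (PhiA q k L (ScA y x ζ)) ↔ ∃ a : ApN G p, RV y x ζ a = ι l • 1 := by
  have : FiniteDimensional ℂ _ := Module.finite_of_finrank_eq_succ hd
  refine ⟨by rintro ⟨a, rfl⟩; exact ⟨_, RV_scA h he hd a⟩, ?_⟩
  rintro ⟨a, e⟩
  refine ⟨⟨a.1, a.2, _, e⟩, ι.injective ?_⟩
  have h1 := congrArg (LinearMap.trace ℂ _) (e.symm.trans (RV_scA h he hd ⟨a.1, a.2, _, e⟩))
  simpa [hd] using h1.symm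

theorem exists_K (h : PQ G 𝔽 p q y x k) (he : SI G (unitK 𝔽 1))
    (hd : finrank ℂ (WX y x ζ (cq ℂ (unitK 𝔽 1))) = 2) {a b : ApN G p}
    (ha : LinearMap.trace ℂ _ (RV y x ζ a) = 0) (hb : LinearMap.trace ℂ _ (RV y x ζ b) = 0)
    (hab : LinearMap.trace ℂ _ (RV y x ζ b * RV y x ζ a) = 0)
    (ha2 : LinearMap.trace ℂ _ (RV y x ζ a * RV y x ζ a) ≠ 0)
    (hb2 : LinearMap.trace ℂ _ (RV y x ζ b * RV y x ζ b) ≠ 0) :
    ∃ EK : Subgroup (ZMod q)ˣ, finrank ℚ (LinearMap.range (PhiA q k L (ScA y x ζ))) = EK.index ∧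
      (∀ m, Ap G m → NI k EK m) ∧ ∀ m : ApN G p, (∀ v, RV y x ζ m v = 0 → v = 0) →
        ∃ g : ApN G p, RV y x ζ (g * m) = 1 := by
  have := IsCyclotomicExtension.finiteDimensional {q} ℚ L
  set K := LinearMap.range (PhiA q k L (ScA y x ζ))
  have hK : ∀ {l}, l ∈ K ↔ _ := mem_K h he.inv hd
  have h1 : 1 ∈ K := hK.2 ⟨⟨_, he.inv, he.idem, he.idem⟩, by rw [map_one, one_smul, RV_unit rfl]⟩
  have hmul : ∀ l l', l ∈ K → l' ∈ K → l * l' ∈ K := fun l l' hl hl' => by
    obtain ⟨a, e⟩ := hK.1 hl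
    obtain ⟨b, e'⟩ := hK.1 hl'
    exact hK.2 ⟨a * b, by rw [map_mul, e, e', smul_mul_smul_comm, mul_one, map_mul]⟩
  have hinv : ∀ l ∈ K, l⁻¹ ∈ K := fun l hl => (subField K h1 hmul).inv_mem hl
  let T : ApN G p → L := fun m => tv q k (IsCyclotomicExtension.zeta q ℚ L) (cq L m.1)
  have hT : ∀ m, LinearMap.trace ℂ _ (RV y x ζ m) = ι (T m) := fun m => by
    rw [trace_RV h prim_iota.pow_eq_one he.inv, tv_iota]
  have h2 : ∀ c : ApN G p, LinearMap.trace ℂ _ (RV y x ζ c) = 0 → T (c * c) / 2 ∈ K := fun c hc =>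
    hK.2 ⟨c * c, by rw [map_div₀, ← hT, map_mul, map_ofNat, ← sq2 hd hc]⟩
  have h3 : ∀ m, T m ∈ K := fun m => by
    have h4 : T (a * a) / 2 * (T (b * b) / 2) * 2 * T m ∈ K := hK.2
      ⟨b * b * (a * a * m + a * m * a) + b * (a * a * m + a * m * a) * b, by
        simp only [map_add, map_mul, map_div₀, ← hT, map_ofNat, ss2 hd ha hb hab]⟩
    have h5 : T (a * a) / 2 * (T (b * b) / 2) * 2 ∈ K :=
      hmul _ _ (hmul _ _ (h2 a ha) (h2 b hb)) (by rw [← one_add_one_eq_two]; exact add_mem h1 h1)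
    have h6 : T (a * a) / 2 * (T (b * b) / 2) * 2 ≠ 0 := by
      rw [← map_mul, hT, map_ne_zero] at ha2 hb2
      simp [ha2, hb2]
    rw [← inv_mul_cancel_left₀ h6 (T m)]
    exact hmul _ _ (hinv _ h5) h4
  obtain ⟨EK, e1, e2⟩ := exists_subgroup_of_subalg (q := q) K h1 hmul
  refine ⟨EK, ?_, fun m hm => e2 _ ?_, fun m hm => ?_⟩
  · have := EK.index_mul_card
    rw [Nat.card_eq_fintype_card (α := (ZMod q)ˣ), ZMod.card_units, ← e1] at this
    exact (Nat.eq_of_mul_eq_mul_right Nat.card_pos this).symm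
  · have := K.smul_mem (q : ℚ) (h3 ⟨m, hm⟩)
    rwa [Rat.smul_def, Rat.cast_natCast, show T ⟨m, hm⟩ = _ from tv_cy m,
      mul_inv_cancel_left₀ (Nat.cast_ne_zero.2 hq.out.ne_zero)] at this
  · obtain ⟨t, ht⟩ := hK.1 (h3 m)
    have h4 : RV y x ζ ((t - m) * m) = ι ((T m ^ 2 - T (m * m)) / 2) • 1 := by
      rw [map_mul, map_sub, ht, ← hT, (det2 hd _).2, map_div₀, map_sub, map_pow, ← hT, ← hT, map_mul (RV y x ζ), map_ofNat]
    obtain ⟨d, hd'⟩ := hK.1 (hinv _ (hK.2 ⟨_, h4⟩))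
    refine ⟨d * (t - m), ?_⟩
    rw [mul_assoc, map_mul, hd', h4, smul_mul_smul_comm, mul_one, ← map_mul, inv_mul_cancel₀, map_one, one_smul]
    have := det2_ne hd hm
    rwa [← map_mul, hT, hT, ← map_pow, ← map_sub, ← map_ofNat ι, ← map_div₀, map_ne_zero] at this

end K

end Cfsg.Agent.P4Q
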