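import Mathlib

/-! Degree `13`: a backtracking count of the maps preserving a union of orbits on triples. -/

set_option autoImplicit false

namespace Cfsg.Agent.P4Q

/-- The table of the orbits of `13 : 3` on triples. -/
def tb13 : ℕ := 0x371654321000015449866530310260153047075203630014101463048505960640640591385059138506406404850596014630363001410752026015304703101544986653000037165432100000371654321000000000000000000371654321300015449866570310260153041075203630014601463048505950640640591384059138506406304850596014620363001410751026015304703001544986653000015449866530000371654321000000000000010000371654325300015449866470310260153041075203630019601463048505850640640591364059138506406304850596014520363001410731026015304700310260153047300015449866510000371654320000000000000210000371654365300015449860470310260153141075203630059601463048503850640640591064059138506446304850596017520363001410075203630014170310260153045300015449866210000371654300000000000003210000371654665300015449830470310260150141075203630059601463048513850640640594064059138506146304850596001463048505961075203630014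470310260153065300015449863210000371654000000000000043210000371658665300015449530470310260100141075203635059601463048913850640640564064059138500640640591385601463048505941075203630010470310260153665300015449843210000371650000000000000543210000371698665300015441530470310260300141075203685059601463045913850640640059138506406450640640591389601463048505141075203630030470310260158665300015449543210000371600000000000006543210000371498665300015401530470310266300141075203485059601463004850596014634059138506406850640640591359601463048500141075203630530470310260198665300015446543210000371000000000000016543210000374498665300015601530470310236300141075200363001410752304850596014664059138506403850640640591059601463048500141075203631530470310260498665300015416543210000370000000000000716543210000354498665300012601530470310026015304703120363001410756304850596014064059138506413850640640595059601463048300141075203601530470310264498665300015716543210000300000000000003716543210000154498665300001544986653001026015304703520363001410746304850596014064059138506913850640640585059601463046300141075203601530470310254498665300013716543210000000000000000003716543210000037165432100001544986653031026015304707520363001410146304850596064064059138505913850640640485059601463036300141075202601530470310154498665300003716543210000000000000000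

/-- The orbit of `13 : 3` containing the triple `a, b, c`. -/
def cl13 (a b c : ℕ) : ℕ :=
  Nat.land (Nat.shiftRight tb13 (Nat.add (Nat.mul 676 a) (Nat.add (Nat.mul 52 b) (Nat.mul 4 c)))) 15

def bt13 (m a b c : ℕ) : ℕ := Nat.land (Nat.shiftRight m (cl13 a b c)) 1

noncomputable def ok1 (m n v i w : ℕ) (l : List (ℕ × ℕ)) : Bool :=
  List.rec true (fun q _ r => Bool.rec false r (Nat.beq (bt13 m q.1 i n) (bt13 m q.2 w v))) l

noncomputable def ok2 (m n v : ℕ) (l : List (ℕ × ℕ)) : Bool :=
  List.rec true (fun q t r => Bool.rec false r (ok1 m n v q.1 q.2 t)) l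

noncomputable def fr (v : ℕ) (l : List (ℕ × ℕ)) : Bool :=
  List.rec true (fun q _ r => Bool.rec r false (Nat.beq q.2 v)) l

noncomputable def cnt13 (m : ℕ) (ns : List ℕ) : List (ℕ × ℕ) → ℕ :=
  List.rec (fun _ => 1) (fun n _ r l => List.rec 0 (fun v _ s => Bool.rec s
    (Bool.rec s (Nat.add (r ((n, v) :: l)) s) (ok2 m n v l)) (fr v l))
      [0, 1, 2, 3, 4, 5, 6, 7, 8, 9, 10, 11, 12]) ns

def lam13 (m b : ℕ) : ℕ :=
  ∑ c ∈ Finset.range 13, if c = 0 ∨ c = b then 0 else bt13 m 0 b c

theorem cnt13_le : ∀ m < 1023, bt13 m 0 1 2 = 1 → lam13 m 1 = lam13 m 2 →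
    cnt13 m [2, 3, 4, 5, 6, 7, 8, 9, 10, 11, 12] [(1, 1), (0, 0)] ≤ 36 := by
  decide +kernel

theorem cnt13_cons (m n : ℕ) (ns : List ℕ) (l : List (ℕ × ℕ)) : cnt13 m (n :: ns) l =
    ∑ v ∈ Finset.range 13, if fr v l = true ∧ ok2 m n v l = true then cnt13 m ns ((n, v) :: l) else 0 := by
  have : ∀ L : List ℕ, (List.rec 0 (fun v _ s => Bool.rec s (Bool.rec s
      (Nat.add (cnt13 m ns ((n, v) :: l)) s) (ok2 m n v l)) (fr v l)) L : ℕ) = (L.map fun v =>
        if fr v l = true ∧ ok2 m n v l = true then cnt13 m ns ((n, v) :: l) else 0).sum := fun L => by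
    induction L with
    | nil => rfl
    | cons v L ih =>
      rw [List.map_cons, List.sum_cons, ← ih]
      cases e1 : fr v l <;> cases e2 : ok2 m n v l <;> simp [e1, e2]
  rw [← List.toFinset_range, List.sum_toFinset _ List.nodup_range, ← this]
  rfl

theorem card_le_cnt13 {α : Type*} (m : ℕ) (f : α → ℕ → ℕ) (k n : ℕ) (hk : n + k = 13) (l : List (ℕ × ℕ))
    (hp : l.Pairwise fun p q => q.1 < p.1) (hn : ∀ p ∈ l, p.1 < n) (ha : ∀ i < n, ∃ v, (i, v) ∈ l)
    (S : Finset α) (hl : ∀ g ∈ S, ∀ p ∈ l, f g p.1 = p.2) (hlt : ∀ g ∈ S, ∀ i < 13, f g i < 13)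
    (hi : ∀ g ∈ S, ∀ i < 13, ∀ j < 13, f g i = f g j → i = j)
    (he : ∀ g ∈ S, ∀ g' ∈ S, (∀ i < 13, f g i = f g' i) → g = g')
    (hB : ∀ g ∈ S, ∀ a b c, a < b → b < c → c < 13 → bt13 m a b c = bt13 m (f g a) (f g b) (f g c)) :
    S.card ≤ cnt13 m (List.range' n k) l := by
  classical
  induction k generalizing n l S with
  | zero =>
    refine Finset.card_le_one.2 fun g hg g' hg' => he g hg g' hg' fun i hi => ?_
    obtain ⟨v, hv⟩ := ha i (by omega)
    exact (hl g hg _ hv).trans (hl g' hg' _ hv).symm
  | succ k ih =>
    rw [Finset.card_eq_sum_card_fiberwise (f := fun g => f g n) (t := Finset.range 13)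
      fun g hg => Finset.mem_coe.2 (Finset.mem_range.2 (hlt g hg n (by omega))), List.range'_succ,
      cnt13_cons]
    refine Finset.sum_le_sum fun v _ => ?_
    rcases (S.filter fun g => f g n = v).eq_empty_or_nonempty with e | ⟨g, hg⟩
    · simp [e]
    replace hg := Finset.mem_filter.1 hg
    obtain ⟨hg, rfl⟩ := hg
    have k1 : ∀ (i : ℕ) (r : List (ℕ × ℕ)), i < n → (∀ q ∈ r, q.1 < i ∧ f g q.1 = q.2) →
        ok1 m n (f g n) i (f g i) r = true := fun i r hi' hr => by
      induction r with
      | nil => rfl
      | cons q r ih' =>
        change (Bool.rec false (ok1 m n (f g n) i (f g i) r) (Nat.beq (bt13 m q.1 i n) _) : Bool) = true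
        rw [ih' fun q' hq' => hr q' (List.mem_cons_of_mem _ hq'), ← (hr q List.mem_cons_self).2,
          ← hB g hg _ _ _ (hr q List.mem_cons_self).1 hi' (by omega), Nat.beq_refl]
    have k2 : ∀ r : List (ℕ × ℕ), (r.Pairwise fun p q => q.1 < p.1) → (∀ q ∈ r, q ∈ l) →
        fr (f g n) r = true ∧ ok2 m n (f g n) r = true := fun r hr hs => by
      induction r with
      | nil => exact ⟨rfl, rfl⟩
      | cons q r ih' =>
        rw [List.pairwise_cons] at hr
        obtain ⟨e1, e2⟩ := ih' hr.2 fun q' hq' => hs q' (List.mem_cons_of_mem _ hq')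
        have hq := hs q List.mem_cons_self
        have := hn q hq
        constructor
        · change (Bool.rec (fr (f g n) r) false (Nat.beq q.2 (f g n)) : Bool) = true
          rw [e1, ← hl g hg q hq, Bool.eq_false_iff.2 fun e => this.ne
            (hi g hg _ (by omega) _ (by omega) (Nat.eq_of_beq_eq_true e))]
        · change (Bool.rec false (ok2 m n (f g n) r) (ok1 m n (f g n) q.1 q.2 r) : Bool) = true
          rw [e2, ← hl g hg q hq, k1 _ _ this
            fun q' hq' => ⟨hr.1 q' hq', hl g hg q' (hs q' (List.mem_cons_of_mem _ hq'))⟩]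
    rw [if_pos (k2 l hp fun _ h => h)]
    refine ih (n + 1) (by omega) _ (List.pairwise_cons.2 ⟨hn, hp⟩) ?_ ?_ _ ?_
      (fun g' hg' => hlt g' (Finset.mem_filter.1 hg').1) (fun g' hg' => hi g' (Finset.mem_filter.1 hg').1)
      (fun g' hg' g'' hg'' => he g' (Finset.mem_filter.1 hg').1 g'' (Finset.mem_filter.1 hg'').1)
      fun g' hg' => hB g' (Finset.mem_filter.1 hg').1
    · intro p hp'
      rcases List.mem_cons.1 hp' with rfl | hp'
      · exact n.lt_succ_self
      · exact (hn p hp').trans n.lt_succ_self
    · intro i hi'
      rcases Nat.lt_succ_iff_lt_or_eq.1 hi' with h | rfl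
      · obtain ⟨v, hv⟩ := ha i h
        exact ⟨v, List.mem_cons_of_mem _ hv⟩
      · exact ⟨_, List.mem_cons_self⟩
    · intro g' hg' p hp'
      rcases List.mem_cons.1 hp' with rfl | hp'
      · exact (Finset.mem_filter.1 hg').2
      · exact hl g' (Finset.mem_filter.1 hg').1 p hp'

/-- Representatives `{0, r₁, r₂}` of the orbits. -/
def rep13 (i : ℕ) : ZMod 13 × ZMod 13 :=
  [(1, 2), (1, 3), (1, 4), (1, 5), (1, 6), (1, 7), (1, 8), (1, 10), (2, 7), (2, 8)].getD i (1, 2)

theorem cl13_spec : ∀ a b c : ZMod 13, a ≠ b → a ≠ c → b ≠ c → cl13 a.val b.val c.val < 10 ∧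
    ∃ s ∈ ([1, 3, 9] : List (ZMod 13)), ∃ t ∈ [a, b, c],
      [t, s * (rep13 (cl13 a.val b.val c.val)).1 + t, s * (rep13 (cl13 a.val b.val c.val)).2 + t].Perm
        [a, b, c] := by
  decide +kernel

theorem bt13_eq (m a b c : ℕ) : bt13 m a b c = if m.testBit (cl13 a b c) then 1 else 0 := by
  change m >>> cl13 a b c &&& 1 = _
  rw [Nat.testBit, Nat.and_comm, Nat.one_and_eq_mod_two]
  rcases Nat.mod_two_eq_zero_or_one (m >>> cl13 a b c) with e | e <;> simp [e]

end Cfsg.Agent.P4Q
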